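import Mathlib

/-!
Schur's theorem on primitive groups containing a regular cyclic subgroup of composite order,
via the (combinatorial) Schur ring over `ZMod n`.
-/

set_option autoImplicit false

open Finset

namespace Cfsg.Agent.H66.SR

variable {n : ℕ} [NeZero n]

/-- `T` is a union of orbits of the stabilizer of `0`. -/
def Inv (G : Subgroup (Equiv.Perm (ZMod n))) (T : Set (ZMod n)) : Prop :=
  ∀ h ∈ G, h 0 = 0 → ∀ x, (h x ∈ T ↔ x ∈ T)

/-- `G` contains the translations. -/
def HasTr (G : Subgroup (Equiv.Perm (ZMod n))) : Prop := ∀ a : ZMod n, Equiv.addRight a ∈ G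

variable {G : Subgroup (Equiv.Perm (ZMod n))}

theorem exists_stab (hG : HasTr G) {γ : Equiv.Perm (ZMod n)} (hγ : γ ∈ G) (y : ZMod n) :
    ∃ h ∈ G, h 0 = 0 ∧ ∀ x, h (x - y) = γ x - γ y := by
  refine ⟨Equiv.addRight (-γ y) * γ * Equiv.addRight y, mul_mem (mul_mem (hG _) hγ) (hG _), ?_, ?_⟩
  · simp
  · intro x
    simp [sub_eq_add_neg]

theorem Inv.sub_mem (hG : HasTr G) {T : Set (ZMod n)} (hT : Inv G T) {γ : Equiv.Perm (ZMod n)}
    (hγ : γ ∈ G) (x y : ZMod n) : (γ x - γ y ∈ T ↔ x - y ∈ T) := by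
  obtain ⟨h, hh, h0, hxy⟩ := exists_stab hG hγ y
  rw [← hxy x]
  exact hT h hh h0 _

theorem Inv.compl {T : Set (ZMod n)} (hT : Inv G T) : Inv G Tᶜ := by
  intro h hh h0 x
  simp only [Set.mem_compl_iff, hT h hh h0 x]

theorem Inv.inter {T T' : Set (ZMod n)} (hT : Inv G T) (hT' : Inv G T') : Inv G (T ∩ T') := by
  intro h hh h0 x
  simp only [Set.mem_inter_iff, hT h hh h0 x, hT' h hh h0 x]

theorem inv_zero : Inv G {0} := by
  intro h hh h0 x
  simp only [Set.mem_singleton_iff]
  constructor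
  · intro hx
    rw [← h0] at hx
    exact h.injective hx
  · rintro rfl; exact h0

/-- the subgroup generated by an invariant set is invariant -/
theorem Inv.closure (hG : HasTr G) {T : Set (ZMod n)} (hT : Inv G T) :
    Inv G (AddSubgroup.closure T : Set (ZMod n)) := by
  have key : ∀ h ∈ G, h 0 = 0 → ∀ x ∈ AddSubgroup.closure T, h x ∈ AddSubgroup.closure T := by
    intro h hh h0 x hx
    induction hx using AddSubgroup.closure_induction_right with
    | zero => rw [h0]; exact zero_mem _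
    | add_right x hx y hy ih =>
      have h1 : h (x + y) - h x ∈ T := by
        rw [hT.sub_mem hG hh]
        simpa using hy
      have h2 := add_mem (AddSubgroup.subset_closure h1) ih
      simpa using h2
    | add_neg_cancel x hx y hy ih =>
      have h1 : h x - h (x + -y) ∈ T := by
        rw [hT.sub_mem hG hh]
        simpa using hy
      have h2 := _root_.sub_mem ih (AddSubgroup.subset_closure h1)
      simpa using h2
  intro h hh h0 x
  refine ⟨fun hx => ?_, key h hh h0 x⟩
  have h1 := key h⁻¹ (inv_mem hh) (by rw [Equiv.Perm.inv_eq_iff_eq, h0]) _ hx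
  simpa using h1

/-- the translation stabilizer of an invariant set is invariant -/
def stab (T : Set (ZMod n)) : AddSubgroup (ZMod n) where
  carrier := {y | ∀ x, x + y ∈ T ↔ x ∈ T}
  zero_mem' := by intro x; rw [add_zero]
  add_mem' := by
    intro a b ha hb x
    rw [← add_assoc, hb, ha]
  neg_mem' := by
    intro a ha x
    rw [← ha (x + -a)]
    simp

theorem mem_stab {T : Set (ZMod n)} {y : ZMod n} : y ∈ stab T ↔ ∀ x, x + y ∈ T ↔ x ∈ T := Iff.rfl

theorem Inv.stab (hG : HasTr G) {T : Set (ZMod n)} (hT : Inv G T) :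
    Inv G (stab T : Set (ZMod n)) := by
  have key : ∀ h ∈ G, h 0 = 0 → ∀ y ∈ SR.stab T, h y ∈ SR.stab T := by
    intro h hh h0 y hy
    rw [mem_stab] at hy ⊢
    have h1 : ∀ x, x ∈ T → x + h y ∈ T := by
      intro x hx
      -- `x = (x + h y) - h y`
      have h2 : (h⁻¹ (x + h y)) - y ∈ T := by
        have h3 := hT.sub_mem hG (inv_mem hh) (x + h y) (h y)
        have h4 : h⁻¹ (h y) = y := h.symm_apply_apply y
        rw [h4] at h3
        rw [h3]
        simpa using hx
      have h4 := (hy (h⁻¹ (x + h y) - y)).mpr h2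
      rw [sub_add_cancel] at h4
      have h5 := (hT h hh h0 (h⁻¹ (x + h y))).mpr h4
      simpa using h5
    intro x
    refine ⟨fun hx => ?_, h1 x⟩
    -- finiteness
    have hfin : (T : Set (ZMod n)).Finite := Set.toFinite _
    have himg : (fun z => z + h y) '' T = T := by
      apply Set.Finite.eq_of_subset_of_encard_le' hfin
      · rintro _ ⟨z, hz, rfl⟩
        exact h1 z hz
      · rw [Function.Injective.encard_image (add_left_injective (h y))]
    rw [← himg] at hx
    obtain ⟨z, hz, hzx⟩ := hx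
    rwa [add_left_injective (h y) hzx] at hz
  intro h hh h0 x
  refine ⟨fun hx => ?_, key h hh h0 x⟩
  have h1 := key h⁻¹ (inv_mem hh) (by rw [Equiv.Perm.inv_eq_iff_eq, h0]) _ hx
  simpa using h1

section Algebra

variable (R : Type*) [CommSemiring R]

/-- invariance of an element of the group ring -/
def AInv (G : Subgroup (Equiv.Perm (ZMod n))) (f : AddMonoidAlgebra R (ZMod n)) : Prop :=
  ∀ h ∈ G, h 0 = 0 → ∀ x, f.coeff (h x) = f.coeff x

variable {R}

theorem AInv.mul (hG : HasTr G) {f g : AddMonoidAlgebra R (ZMod n)} (hf : AInv R G f)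
    (hg : AInv R G g) : AInv R G (f * g) := by
  intro h hh h0 x
  rw [AddMonoidAlgebra.coeff_mul_apply_left, AddMonoidAlgebra.coeff_mul_apply_left,
    Finsupp.sum_fintype _ _ (by intro i; rw [zero_mul]),
    Finsupp.sum_fintype _ _ (by intro i; rw [zero_mul])]
  rw [← Equiv.sum_comp h]
  refine Finset.sum_congr rfl (fun y _ => ?_)
  rw [hf h hh h0 y]
  congr 1
  obtain ⟨k, hk, hk0, hkxy⟩ := exists_stab hG hh y
  rw [neg_add_eq_sub, neg_add_eq_sub, ← hkxy x]
  exact hg k hk hk0 _

theorem AInv.one : AInv R G (1 : AddMonoidAlgebra R (ZMod n)) := by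
  intro h hh h0 x
  rw [AddMonoidAlgebra.one_def, AddMonoidAlgebra.coeff_single, Finsupp.single_apply, Finsupp.single_apply]
  have : (0 = h x) ↔ (0 = x) := by
    constructor
    · intro hx; rw [← h0] at hx; exact h.injective hx
    · rintro rfl; exact h0.symm
  simp only [this]

theorem AInv.pow (hG : HasTr G) {f : AddMonoidAlgebra R (ZMod n)} (hf : AInv R G f) (k : ℕ) :
    AInv R G (f ^ k) := by
  induction k with
  | zero => rw [pow_zero]; exact AInv.one
  | succ k ih => rw [pow_succ]; exact ih.mul hG hf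

end Algebra

/-- the number of `t ∈ T` with `q t = y`, modulo `q`, is invariant -/
theorem Inv.count (hG : HasTr G) {T : Set (ZMod n)} (hT : Inv G T) (q : ℕ) [hq : Fact q.Prime] :
    Inv G {y : ZMod n | ¬ q ∣ Nat.card {t : ZMod n // t ∈ T ∧ q • t = y}} := by
  classical
  let f : AddMonoidAlgebra (ZMod q) (ZMod n) := ∑ t ∈ univ.filter (· ∈ T), AddMonoidAlgebra.single t 1
  have hfc : ∀ x, f.coeff x = if x ∈ T then 1 else 0 := by
    intro x
    simp only [f, AddMonoidAlgebra.coeff_sum, Finsupp.finsetSum_apply, AddMonoidAlgebra.coeff_single,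
      Finsupp.single_apply]
    rw [Finset.sum_ite_eq' (univ.filter (· ∈ T)) x (fun _ => (1 : ZMod q))]
    simp
  have hf : AInv (ZMod q) G f := by
    intro h hh h0 x
    rw [hfc, hfc]
    simp only [hT h hh h0 x]
  have hchar : CharP (AddMonoidAlgebra (ZMod q) (ZMod n)) q :=
    charP_of_injective_algebraMap (R := ZMod q)
      (FaithfulSMul.algebraMap_injective (ZMod q) (AddMonoidAlgebra (ZMod q) (ZMod n))) q
  have hpow : f ^ q = ∑ t ∈ univ.filter (· ∈ T), AddMonoidAlgebra.single (q • t) 1 := by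
    simp only [f]
    rw [sum_pow_char q]
    refine Finset.sum_congr rfl (fun t _ => ?_)
    rw [AddMonoidAlgebra.single_pow, one_pow]
  have hcoef : ∀ y, (f ^ q).coeff y = (Nat.card {t : ZMod n // t ∈ T ∧ q • t = y} : ZMod q) := by
    intro y
    rw [hpow]
    simp only [AddMonoidAlgebra.coeff_sum, Finsupp.finsetSum_apply, AddMonoidAlgebra.coeff_single,
      Finsupp.single_apply]
    rw [← Finset.sum_filter, Finset.sum_const, nsmul_eq_mul, mul_one, Finset.filter_filter,
      Nat.card_eq_fintype_card, Fintype.card_subtype]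
  intro h hh h0 x
  have h1 := hf.pow hG q h hh h0 x
  rw [hcoef, hcoef] at h1
  simp only [Set.mem_ofPred_eq, ← ZMod.natCast_eq_zero_iff, h1]

/-- hypothesis of primitivity -/
def Prim (G : Subgroup (Equiv.Perm (ZMod n))) : Prop :=
  ∀ H : AddSubgroup (ZMod n), Inv G (H : Set (ZMod n)) → H = ⊥ ∨ H = ⊤

/-- the elements killed by `p` -/
def tor (n p : ℕ) : AddSubgroup (ZMod n) := (nsmulAddMonoidHom (α := ZMod n) p).ker

theorem mem_tor {p : ℕ} {x : ZMod n} : x ∈ tor n p ↔ p • x = 0 := Iff.rfl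

theorem card_tor {p : ℕ} (hp : p ∣ n) : Nat.card (tor n p) = p := by
  have h1 := IsAddCyclic.card_nsmulAddMonoidHom_ker (G := ZMod n) p
  rw [Nat.card_zmod, Nat.gcd_eq_right hp] at h1
  exact h1

theorem count_le {p : ℕ} (hp : p ∣ n) (hp0 : p ≠ 0) (T : Set (ZMod n)) (x : ZMod n)
    (hc : p ∣ Nat.card {t : ZMod n // t ∈ T ∧ p • t = p • x}) (hx : x ∈ T) :
    ∀ y ∈ tor n p, x + y ∈ T := by
  classical
  -- the fiber is a translate of the torsion subgroup
  have hpos : 0 < Nat.card {t : ZMod n // t ∈ T ∧ p • t = p • x} := by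
    have : Nonempty {t : ZMod n // t ∈ T ∧ p • t = p • x} := ⟨⟨x, hx, rfl⟩⟩
    exact Nat.card_pos
  have hle : p ≤ Nat.card {t : ZMod n // t ∈ T ∧ p • t = p • x} := Nat.le_of_dvd hpos hc
  let f : {t : ZMod n // t ∈ T ∧ p • t = p • x} → tor n p := fun t =>
    ⟨(t : ZMod n) - x, by rw [mem_tor, smul_sub, t.2.2, sub_self]⟩
  have hf : Function.Injective f := by
    intro a b hab
    have := congrArg Subtype.val hab
    simp only [f, sub_left_inj] at this
    exact Subtype.ext this
  have hf2 : Function.Bijective f := by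
    apply hf.bijective_of_nat_card_le
    rw [card_tor hp]
    exact hle
  intro y hy
  obtain ⟨t, ht⟩ := hf2.2 ⟨y, hy⟩
  have h1 : (t : ZMod n) - x = y := congrArg Subtype.val ht
  have h2 : x + y = t := by rw [← h1]; ring
  rw [h2]
  exact t.2.1

/-- the key property of invariant sets -/
theorem key (hG : HasTr G) (hprim : Prim G) {p : ℕ} (hp : p.Prime) (hpn : p ∣ n)
    {T : Set (ZMod n)} (hT : Inv G T) (h0 : (0 : ZMod n) ∉ T) (hne : T.Nonempty) :
    (∃ a ∈ T, a ∈ tor n p) ∧ (∀ x ∈ T, x ∉ tor n p → ∀ y ∈ tor n p, x + y ∈ T) := by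
  have hpf := Fact.mk hp
  have hN := hT.count hG p
  set N := {y : ZMod n | ¬ p ∣ Nat.card {t : ZMod n // t ∈ T ∧ p • t = y}} with hNdef
  have hrange : N ⊆ ((nsmulAddMonoidHom (α := ZMod n) p).range : Set (ZMod n)) := by
    intro y hy
    have : Nat.card {t : ZMod n // t ∈ T ∧ p • t = y} ≠ 0 := by
      intro h
      apply hy
      rw [h]; exact dvd_zero p
    obtain ⟨⟨⟨t, ht⟩⟩, -⟩ := Nat.card_ne_zero.mp this
    exact ⟨t, ht.2⟩
  have hrt : (nsmulAddMonoidHom (α := ZMod n) p).range ≠ ⊤ := by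
    intro h
    have hs : Function.Surjective (nsmulAddMonoidHom (α := ZMod n) p) := AddMonoidHom.range_eq_top.mp h
    have hi : Function.Injective (nsmulAddMonoidHom (α := ZMod n) p) := Finite.injective_iff_surjective.mpr hs
    have h1 : Nat.card (tor n p) = 1 := by
      have h2 : tor n p = ⊥ := (AddMonoidHom.ker_eq_bot_iff _).mpr hi
      rw [h2]; simp
    rw [card_tor hpn] at h1
    exact hp.one_lt.ne' h1
  have hN0 : ∀ y ∈ N, y = 0 := by
    intro y hy
    have h1 := hprim (AddSubgroup.closure N) (hN.closure hG)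
    rcases h1 with h1 | h1
    · have h2 : y ∈ AddSubgroup.closure N := AddSubgroup.subset_closure hy
      rwa [h1, AddSubgroup.mem_bot] at h2
    · exfalso
      apply hrt
      rw [eq_top_iff, ← h1]
      exact (AddSubgroup.closure_le _).mpr hrange
  have hfull : ∀ x ∈ T, x ∉ tor n p → ∀ y ∈ tor n p, x + y ∈ T := by
    intro x hx hxp
    refine count_le hpn hp.ne_zero T x ?_ hx
    by_contra hcon
    exact hxp (hN0 (p • x) hcon)
  refine ⟨?_, hfull⟩
  by_contra hno
  push Not at hno
  -- the torsion subgroup stabilizes `T`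
  have h1 : tor n p ≤ stab T := by
    intro y hy
    rw [mem_stab]
    intro x
    constructor
    · intro hxy
      have := hfull (x + y) hxy (hno _ hxy) (-y) (neg_mem hy)
      simpa using this
    · intro hx
      exact hfull x hx (hno x hx) y hy
  rcases hprim (stab T) (hT.stab hG) with h2 | h2
  · rw [h2, le_bot_iff] at h1
    have h3 := card_tor hpn
    rw [h1] at h3
    simp at h3
    exact hp.one_lt.ne h3
  · obtain ⟨t, ht⟩ := hne
    have h3 : -t ∈ stab T := by rw [h2]; exact AddSubgroup.mem_top _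
    have h4 := (h3 t).mpr ht
    rw [add_neg_cancel] at h4
    exact h0 h4

/-- The case of two distinct prime divisors. -/
theorem torsion_subset (hG : HasTr G) (hprim : Prim G) {p q : ℕ} (hp : p.Prime) (hq : q.Prime)
    (hpq : p ≠ q) (hpn : p ∣ n) (hqn : q ∣ n)
    {T : Set (ZMod n)} (hT : Inv G T) (h0 : (0 : ZMod n) ∉ T) (hne : T.Nonempty) :
    ∀ b ∈ tor n q, b ≠ 0 → b ∈ T := by
  have hdisj : ∀ x ∈ tor n p, x ∈ tor n q → x = 0 := by
    intro x hxp hxq
    rw [mem_tor] at hxp hxq
    have h1 : addOrderOf x ∣ p := addOrderOf_dvd_of_nsmul_eq_zero hxp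
    have h2 : addOrderOf x ∣ q := addOrderOf_dvd_of_nsmul_eq_zero hxq
    have h3 := Nat.dvd_gcd h1 h2
    rw [((Nat.coprime_primes hp hq).mpr hpq).gcd_eq_one, Nat.dvd_one] at h3
    exact AddMonoid.addOrderOf_eq_one_iff.mp h3
  obtain ⟨⟨a, haT, hap⟩, hP⟩ := key hG hprim hp hpn hT h0 hne
  obtain ⟨-, hQ⟩ := key hG hprim hq hqn hT h0 hne
  have ha0 : a ≠ 0 := fun h => h0 (h ▸ haT)
  have haq : a ∉ tor n q := fun h => ha0 (hdisj a hap h)
  intro b hb hb0
  have h1 : a + b ∈ T := hQ a haT haq b hb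
  have h2 : a + b ∉ tor n p := by
    intro h
    have h3 : b ∈ tor n p := by
      have := sub_mem h hap
      simpa using this
    exact hb0 (hdisj b h3 hb)
  have h3 := hP _ h1 h2 (-a) (neg_mem hap)
  simpa [add_comm] using h3

/-- multiplication by a number prime to `n` preserves invariance -/
theorem Inv.image (hG : HasTr G) {m : ℕ} (hm : m.Coprime n) : ∀ {T : Set (ZMod n)}, Inv G T →
    Inv G ((fun x => m • x) '' T) := by
  induction m using Nat.recOnPrimeCoprime with
  | zero =>
    intro T hT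
    have h1 : n = 1 := by simpa using hm
    subst h1
    intro h hh h0 x
    rw [Subsingleton.elim (h x) x]
  | prime_pow p k hp =>
    induction k with
    | zero =>
      intro T hT
      simpa using hT
    | succ k ih =>
      intro T hT
      have hk : (p ^ k).Coprime n := by
        rcases Nat.eq_zero_or_pos k with h | h
        · rw [h, pow_zero]; exact Nat.coprime_one_left n
        · exact Nat.Coprime.coprime_dvd_left (pow_dvd_pow p (Nat.le_succ k)) hm
      have hpc : p.Coprime n := Nat.Coprime.coprime_dvd_left (dvd_pow_self p (Nat.succ_ne_zero k)) hm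
      have hpf := Fact.mk hp
      have h1 := (ih hk hT).count hG p
      have hinj : Function.Injective (fun x : ZMod n => p • x) := by
        intro a b hab
        have h2 : (ZMod.unitOfCoprime p hpc : ZMod n) * a = (ZMod.unitOfCoprime p hpc : ZMod n) * b := by
          rw [ZMod.coe_unitOfCoprime]
          simpa [nsmul_eq_mul] using hab
        exact (Units.mul_right_inj _).mp h2
      have h3 : {y : ZMod n | ¬ p ∣ Nat.card {t : ZMod n // t ∈ (fun x => p ^ k • x) '' T ∧ p • t = y}} =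
          (fun x => p ^ (k + 1) • x) '' T := by
        ext y
        simp only [Set.mem_ofPred_eq]
        constructor
        · intro hy
          have : Nat.card {t : ZMod n // t ∈ (fun x => p ^ k • x) '' T ∧ p • t = y} ≠ 0 := by
            intro h
            apply hy
            rw [h]; exact dvd_zero p
          obtain ⟨⟨⟨t, ⟨x, hx, hxt⟩, hty⟩⟩, -⟩ := Nat.card_ne_zero.mp this
          refine ⟨x, hx, ?_⟩
          simp only at hxt ⊢
          rw [← hty, ← hxt, smul_smul, pow_succ, mul_comm]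
        · rintro ⟨x, hx, rfl⟩
          have : Nat.card {t : ZMod n // t ∈ (fun x => p ^ k • x) '' T ∧ p • t = p ^ (k + 1) • x} = 1 := by
            rw [Nat.card_eq_one_iff_unique]
            refine ⟨⟨?_⟩, ⟨⟨p ^ k • x, ⟨x, hx, rfl⟩, by rw [smul_smul, pow_succ, mul_comm]⟩⟩⟩
            rintro ⟨a, -, ha⟩ ⟨b, -, hb⟩
            exact Subtype.ext (hinj (ha.trans hb.symm))
          simp only [this]
          exact hp.one_lt.ne' ∘ Nat.dvd_one.mp
      rwa [h3] at h1
  | coprime a b ha hb hab iha ihb =>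
    intro T hT
    have h1 := iha (Nat.Coprime.coprime_mul_right hm) (ihb (Nat.Coprime.coprime_mul_left hm) hT)
    rw [Set.image_image] at h1
    simpa only [smul_smul] using h1

/-- the orbit of the stabilizer of `0` -/
def orb (G : Subgroup (Equiv.Perm (ZMod n))) (x : ZMod n) : Set (ZMod n) :=
  {y | ∃ h ∈ G, h 0 = 0 ∧ h x = y}

theorem mem_orb_self (x : ZMod n) : x ∈ orb G x := ⟨1, one_mem _, rfl, rfl⟩

theorem orb_inv (x : ZMod n) : Inv G (orb G x) := by
  intro h hh h0 y
  constructor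
  · rintro ⟨k, hk, hk0, hky⟩
    refine ⟨h⁻¹ * k, mul_mem (inv_mem hh) hk, ?_, ?_⟩
    · rw [Equiv.Perm.mul_apply, hk0, Equiv.Perm.inv_eq_iff_eq, h0]
    · rw [Equiv.Perm.mul_apply, hky]
      exact h.symm_apply_apply y
  · rintro ⟨k, hk, hk0, hky⟩
    refine ⟨h * k, mul_mem hh hk, ?_, ?_⟩
    · rw [Equiv.Perm.mul_apply, hk0, h0]
    · rw [Equiv.Perm.mul_apply, hky]

theorem orb_subset {T : Set (ZMod n)} (hT : Inv G T) {x : ZMod n} {y : ZMod n} (hy : y ∈ orb G x)
    (hyT : y ∈ T) : orb G x ⊆ T := by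
  obtain ⟨h, hh, h0, rfl⟩ := hy
  have hx : x ∈ T := (hT h hh h0 x).mp hyT
  rintro z ⟨k, hk, hk0, rfl⟩
  exact (hT k hk hk0 x).mpr hx

theorem zero_notMem_orb {x : ZMod n} (hx : x ≠ 0) : (0 : ZMod n) ∉ orb G x := by
  rintro ⟨h, -, h0, hx0⟩
  rw [← h0] at hx0
  exact hx (h.injective hx0)

theorem orb_eq_of_mem {x y : ZMod n} (hy : y ∈ orb G x) : orb G y = orb G x := by
  apply Set.Subset.antisymm
  · exact orb_subset (orb_inv x) (mem_orb_self y) hy
  · exact orb_subset (orb_inv y) hy (mem_orb_self y)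

end Cfsg.Agent.H66.SR

namespace Cfsg.Agent.H66.SR

section PrimePower

variable {p m : ℕ} [hpf : Fact p.Prime] {G : Subgroup (Equiv.Perm (ZMod (p ^ m)))}

theorem mem_M_iff (hm : 1 ≤ m) (x : ZMod (p ^ m)) : x ∈ tor (p ^ m) (p ^ (m - 1)) ↔ p ∣ x.val := by
  rw [mem_tor, nsmul_eq_mul]
  have h1 : ((p ^ (m - 1) : ℕ) : ZMod (p ^ m)) * x = ((p ^ (m - 1) * x.val : ℕ) : ZMod (p ^ m)) := by
    push_cast
    rw [ZMod.natCast_val, ZMod.cast_id', id]
  rw [h1, ZMod.natCast_eq_zero_iff]
  have h2 : p ^ m = p ^ (m - 1) * p := by rw [← pow_succ]; congr 1; omega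
  generalize x.val = k
  rw [h2]
  exact Nat.mul_dvd_mul_iff_left (pow_pos hpf.out.pos _)

theorem exists_unit (hm : 1 ≤ m) {x : ZMod (p ^ m)} (hx : x ∉ tor (p ^ m) (p ^ (m - 1)))
    {y : ZMod (p ^ m)} (hy : y ∈ tor (p ^ m) (p ^ (m - 1))) :
    ∃ u : ℕ, u.Coprime (p ^ m) ∧ u • x = x + y ∧ ∀ a ∈ tor (p ^ m) p, u • a = a := by
  rw [mem_M_iff hm] at hx hy
  have hxc : x.val.Coprime (p ^ m) := Nat.Coprime.pow_right m ((Nat.Prime.coprime_iff_not_dvd hpf.out).mpr hx).symm
  set X := ZMod.unitOfCoprime x.val hxc with hX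
  have hXv : (X : ZMod (p ^ m)) = x := by
    rw [hX, ZMod.coe_unitOfCoprime, ZMod.natCast_val, ZMod.cast_id', id]
  obtain ⟨c, hc⟩ := hy
  have hyc : y = (p : ZMod (p ^ m)) * (c : ZMod (p ^ m)) := by
    have : y = ((y.val : ℕ) : ZMod (p ^ m)) := by rw [ZMod.natCast_val, ZMod.cast_id', id]
    rw [this, hc]; push_cast; ring
  set z : ZMod (p ^ m) := (c : ZMod (p ^ m)) * ((X⁻¹ : (ZMod (p ^ m))ˣ) : ZMod (p ^ m)) with hz
  refine ⟨1 + p * z.val, ?_, ?_, ?_⟩
  · apply Nat.Coprime.pow_right
    rw [Nat.coprime_comm, Nat.Prime.coprime_iff_not_dvd hpf.out]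
    intro h
    have h2 : p ∣ 1 := (Nat.dvd_add_left (Dvd.intro _ rfl)).mp h
    exact hpf.out.one_lt.ne' (Nat.dvd_one.mp h2)
  · rw [nsmul_eq_mul]
    push_cast
    rw [ZMod.natCast_val, ZMod.cast_id', id, hz, hyc]
    have h3 : ((X⁻¹ : (ZMod (p ^ m))ˣ) : ZMod (p ^ m)) * x = 1 := by
      rw [← hXv]; exact Units.inv_mul X
    linear_combination (p : ZMod (p ^ m)) * (c : ZMod (p ^ m)) * h3
  · intro a ha
    rw [mem_tor, nsmul_eq_mul] at ha
    rw [nsmul_eq_mul]
    push_cast
    linear_combination ((z.val : ℕ) : ZMod (p ^ m)) * ha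

theorem orb_full (hm : 1 ≤ m) (hG : HasTr G) (hprim : Prim G) {w : ZMod (p ^ m)} (hw : w ≠ 0)
    {x : ZMod (p ^ m)} (hx : x ∈ orb G w) (hxM : x ∉ tor (p ^ m) (p ^ (m - 1))) :
    ∀ y ∈ tor (p ^ m) (p ^ (m - 1)), x + y ∈ orb G w := by
  intro y hy
  obtain ⟨u, hu, hux, hua⟩ := exists_unit hm hxM hy
  obtain ⟨⟨a, haT, hap⟩, -⟩ := key hG hprim hpf.out (dvd_pow_self p (by omega)) (orb_inv w)
    (zero_notMem_orb hw) ⟨w, mem_orb_self w⟩
  have h1 : orb G w ⊆ (fun x => u • x) '' orb G w := by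
    refine orb_subset ((orb_inv w).image hG hu) haT ⟨a, haT, hua a hap⟩
  have h2 : orb G w = (fun x => u • x) '' orb G w := by
    refine Set.Finite.eq_of_subset_of_encard_le (Set.toFinite _) h1 (Set.encard_image_le _ _)
  rw [h2, ← hux]
  exact ⟨x, hx, rfl⟩

theorem orb_not_le (hm : 1 ≤ m) (hG : HasTr G) (hprim : Prim G) {w : ZMod (p ^ m)} (hw : w ≠ 0) :
    ∃ x ∈ orb G w, x ∉ tor (p ^ m) (p ^ (m - 1)) := by
  by_contra hcon
  push Not at hcon
  have h1 : AddSubgroup.closure (orb G w) ≤ tor (p ^ m) (p ^ (m - 1)) := (AddSubgroup.closure_le _).mpr hcon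
  rcases hprim _ ((orb_inv w).closure hG) with h2 | h2
  · apply hw
    have h3 : w ∈ AddSubgroup.closure (orb G w) := AddSubgroup.subset_closure (mem_orb_self w)
    rwa [h2, AddSubgroup.mem_bot] at h3
  · rw [h2, top_le_iff] at h1
    have h3 := card_tor (n := p ^ m) (p := p ^ (m - 1)) (pow_dvd_pow p (Nat.sub_le m 1))
    rw [h1] at h3
    simp only [AddSubgroup.card_top, Nat.card_zmod] at h3
    have := Nat.pow_right_injective hpf.out.two_le h3
    omega

open Classical in
/-- the crucial counting argument -/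
theorem no_pair (hm : 2 ≤ m) (hG : HasTr G) (hprim : Prim G) {v w : ZMod (p ^ m)} (hv : v ≠ 0)
    (hw : w ≠ 0) (hneg : ∀ a ∈ orb G v, -a ∉ orb G w) : False := by
  have hm1 : 1 ≤ m := by omega
  set A := orb G v with hA
  set B := orb G w with hB
  set M := tor (p ^ m) (p ^ (m - 1)) with hM
  let F : ZMod (p ^ m) → ℕ := fun z => (univ.filter (fun a => a ∈ A ∧ z - a ∈ B)).card
  -- invariance of `F`
  have hF : ∀ h ∈ G, h 0 = 0 → ∀ x, F (h x) = F x := by
    intro h hh h0 x
    simp only [F]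
    refine (Finset.card_bij (fun a _ => h a) ?_ ?_ ?_).symm
    · intro a ha
      simp only [mem_filter, mem_univ, true_and] at ha ⊢
      exact ⟨(orb_inv v h hh h0 a).mpr ha.1, ((orb_inv w).sub_mem hG hh x a).mpr ha.2⟩
    · intro a _ b _ hab
      exact h.injective hab
    · intro b hb
      simp only [mem_filter, mem_univ, true_and] at hb
      have hb' : h (h⁻¹ b) = b := h.apply_symm_apply b
      refine ⟨h⁻¹ b, ?_, hb'⟩
      simp only [mem_filter, mem_univ, true_and]
      constructor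
      · rw [← hb'] at hb
        exact (orb_inv v h hh h0 _).mp hb.1
      · rw [← (orb_inv w).sub_mem hG hh, hb']
        exact hb.2
  set cA := (univ.filter (fun a => a ∈ A ∧ a ∈ M)).card with hcA
  set cB := (univ.filter (fun a => a ∈ B ∧ a ∈ M)).card with hcB
  have hsub : tor (p ^ m) p ≤ M := by
    intro x hx
    rw [mem_tor] at hx
    rw [hM, mem_tor]
    have : p ^ (m - 1) = p ^ (m - 2) * p := by rw [← pow_succ]; congr 1; omega
    rw [this, mul_smul, hx, smul_zero]
  have hcA1 : 1 ≤ cA := by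
    obtain ⟨⟨a, haT, hap⟩, -⟩ := key hG hprim hpf.out (dvd_pow_self p (by omega)) (orb_inv v)
      (zero_notMem_orb hv) ⟨v, mem_orb_self v⟩
    exact Finset.card_pos.mpr ⟨a, by simp only [mem_filter, mem_univ, true_and]; exact ⟨haT, hsub hap⟩⟩
  have hcB1 : 1 ≤ cB := by
    obtain ⟨⟨a, haT, hap⟩, -⟩ := key hG hprim hpf.out (dvd_pow_self p (by omega)) (orb_inv w)
      (zero_notMem_orb hw) ⟨w, mem_orb_self w⟩
    exact Finset.card_pos.mpr ⟨a, by simp only [mem_filter, mem_univ, true_and]; exact ⟨haT, hsub hap⟩⟩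
  -- lower bound outside `M`
  have hlow : ∀ z, z ∉ M → (if z ∈ A then cB else 0) + (if z ∈ B then cA else 0) ≤ F z := by
    intro z hz
    have h1 : (if z ∈ B then cA else 0) ≤ (univ.filter (fun a => (a ∈ A ∧ z - a ∈ B) ∧ a ∈ M)).card := by
      split_ifs with h
      · rw [hcA]
        apply Finset.card_le_card
        intro a ha
        simp only [mem_filter, mem_univ, true_and] at ha ⊢
        refine ⟨⟨ha.1, ?_⟩, ha.2⟩
        have := orb_full hm1 hG hprim hw h hz (-a) (neg_mem ha.2)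
        rwa [← sub_eq_add_neg] at this
      · exact Nat.zero_le _
    have h2 : (if z ∈ A then cB else 0) ≤ (univ.filter (fun a => (a ∈ A ∧ z - a ∈ B) ∧ a ∉ M)).card := by
      split_ifs with h
      · rw [hcB]
        refine Finset.card_le_card_of_injOn (fun b => z - b) ?_ ?_
        · intro b hb
          simp only [coe_filter, mem_univ, true_and, Set.mem_ofPred_eq] at hb ⊢
          refine ⟨⟨?_, ?_⟩, ?_⟩
          · have := orb_full hm1 hG hprim hv h hz (-b) (neg_mem hb.2)
            rwa [← sub_eq_add_neg] at this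
          · rw [sub_sub_cancel]; exact hb.1
          · intro h3
            apply hz
            have := add_mem h3 hb.2
            simpa using this
        · intro a _ b _ hab
          exact sub_right_injective hab
      · exact Nat.zero_le _
    have h3 : F z = (univ.filter (fun a => (a ∈ A ∧ z - a ∈ B) ∧ a ∈ M)).card +
        (univ.filter (fun a => (a ∈ A ∧ z - a ∈ B) ∧ a ∉ M)).card := by
      simp only [F]
      rw [← Finset.card_filter_add_card_filter_not (s := univ.filter (fun a => a ∈ A ∧ z - a ∈ B)) (fun a => a ∈ M),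
        Finset.filter_filter, Finset.filter_filter]
    omega
  -- lower bound everywhere
  have hlow' : ∀ z, (if z ∈ A then cB else 0) + (if z ∈ B then cA else 0) ≤ F z := by
    intro z
    by_cases hzA : z ∈ A
    · obtain ⟨x, hx, hxM⟩ := orb_not_le hm1 hG hprim hv
      have hxz : x ∈ orb G z := by rw [orb_eq_of_mem hzA]; exact hx
      obtain ⟨h, hh, h0, hhx⟩ := hxz
      have h1 := hlow x hxM
      rw [← hhx, hF h hh h0 z] at h1
      have e1 : (h z ∈ A) ↔ z ∈ A := orb_inv v h hh h0 z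
      have e2 : (h z ∈ B) ↔ z ∈ B := orb_inv w h hh h0 z
      simpa only [e1, e2] using h1
    · by_cases hzB : z ∈ B
      · obtain ⟨x, hx, hxM⟩ := orb_not_le hm1 hG hprim hw
        have hxz : x ∈ orb G z := by rw [orb_eq_of_mem hzB]; exact hx
        obtain ⟨h, hh, h0, hhx⟩ := hxz
        have h1 := hlow x hxM
        rw [← hhx, hF h hh h0 z] at h1
        have e1 : (h z ∈ A) ↔ z ∈ A := orb_inv v h hh h0 z
        have e2 : (h z ∈ B) ↔ z ∈ B := orb_inv w h hh h0 z
        simpa only [e1, e2] using h1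
      · simp [hzA, hzB]
  -- the total over `M`
  have htot : ∑ z ∈ univ.filter (fun z => z ∈ M), F z ≤ cA * cB := by
    have h1 : ∑ z ∈ univ.filter (fun z => z ∈ M), F z =
        ((univ.filter (fun z => z ∈ M)).sigma (fun z => univ.filter (fun a => a ∈ A ∧ z - a ∈ B))).card := by
      rw [Finset.card_sigma]
    rw [h1, hcA, hcB, ← Finset.card_product]
    refine Finset.card_le_card_of_injOn (fun s => (s.2, s.1 - s.2)) ?_ ?_
    · rintro ⟨z, a⟩ hs
      simp only [coe_sigma, coe_filter, mem_univ, true_and, Set.mem_sigma_iff, Set.mem_ofPred_eq] at hs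
      simp only [coe_product, coe_filter, mem_univ, true_and, Set.mem_prod, Set.mem_ofPred_eq]
      obtain ⟨hz, ha, hb⟩ := hs
      have haM : a ∈ M := by
        by_contra haM
        have hbM : z - a ∉ M := by
          intro h
          apply haM
          have := sub_mem hz h
          simpa using this
        have h2 := orb_full hm1 hG hprim hw hb hbM (-z) (neg_mem hz)
        apply hneg a ha
        have h3 : z - a + -z = -a := by ring
        rwa [h3] at h2
      exact ⟨⟨ha, haM⟩, hb, sub_mem hz haM⟩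
    · rintro ⟨z, a⟩ _ ⟨z', a'⟩ _ hss
      simp only [Prod.mk.injEq] at hss
      obtain ⟨h2, h3⟩ := hss
      subst h2
      have : z = z' := sub_left_injective h3
      subst this
      rfl
  have hsum : cA * cB + cB * cA ≤ ∑ z ∈ univ.filter (fun z => z ∈ M), F z := by
    have h1 : ∑ z ∈ univ.filter (fun z => z ∈ M), ((if z ∈ A then cB else 0) + (if z ∈ B then cA else 0)) =
        cA * cB + cB * cA := by
      rw [Finset.sum_add_distrib, ← Finset.sum_filter, ← Finset.sum_filter, Finset.sum_const, Finset.sum_const,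
        Finset.filter_filter, Finset.filter_filter, smul_eq_mul, smul_eq_mul, hcA, hcB]
      simp only [and_comm]
    rw [← h1]
    exact Finset.sum_le_sum (fun z _ => hlow' z)
  have := Nat.mul_pos hcA1 hcB1
  have e : cB * cA = cA * cB := mul_comm _ _
  omega

theorem transitive_of_prime_power (hm : 2 ≤ m) (hG : HasTr G) (hprim : Prim G) {x y : ZMod (p ^ m)}
    (hx : x ≠ 0) (hy : y ≠ 0) : y ∈ orb G x := by
  by_contra hxy
  have hc : (p ^ m - 1).Coprime (p ^ m) := by
    have h1 : 0 < p ^ m := pow_pos hpf.out.pos m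
    rw [Nat.coprime_comm]
    exact (Nat.coprime_self_sub_right h1).mpr (Nat.coprime_one_right _)
  have hnegs : ∀ a : ZMod (p ^ m), (p ^ m - 1) • a = -a := by
    intro a
    have h1 : 1 ≤ p ^ m := pow_pos hpf.out.pos m
    rw [nsmul_eq_mul, Nat.cast_sub h1]
    simp
  by_cases h : ∃ a ∈ orb G x, -a ∈ orb G x
  · obtain ⟨a, ha, hna⟩ := h
    apply no_pair hm hG hprim hx hy
    intro b hb hnb
    -- `-b ∈ orb y`, but `-orb x = orb x`
    have h1 : orb G x ⊆ (fun z => (p ^ m - 1) • z) '' orb G x :=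
      orb_subset ((orb_inv x).image hG hc) hna ⟨a, ha, hnegs a⟩
    have h2 : -b ∈ orb G x := by
      obtain ⟨c, hc1, hc2⟩ := h1 hb
      simp only [hnegs] at hc2
      rw [← hc2, neg_neg]
      exact hc1
    have h3 : orb G x = orb G y := by rw [← orb_eq_of_mem h2, orb_eq_of_mem hnb]
    exact hxy (h3 ▸ mem_orb_self y)
  · push Not at h
    exact no_pair hm hG hprim hx hx h

end PrimePower

/-- **Schur**: if `n` is composite and `G` is primitive then the stabilizer of `0` is transitive on the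
nonzero elements. -/
theorem transitive_of_composite {n : ℕ} [NeZero n] {G : Subgroup (Equiv.Perm (ZMod n))} (hn1 : n ≠ 1)
    (hn : ¬ n.Prime) (hG : HasTr G) (hprim : Prim G) {x y : ZMod n} (hx : x ≠ 0) (hy : y ≠ 0) :
    y ∈ orb G x := by
  by_cases hpp : IsPrimePow n
  · obtain ⟨p, m, hp, hm, rfl⟩ := (isPrimePow_nat_iff n).mp hpp
    have hpf := Fact.mk hp
    refine transitive_of_prime_power ?_ hG hprim hx hy
    rcases Nat.lt_or_ge m 2 with h | h
    · have : m = 1 := by omega
      rw [this, pow_one] at hn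
      exact absurd hp hn
    · exact h
  · -- two distinct prime divisors
    have hn0 : n ≠ 0 := NeZero.ne n
    obtain ⟨p, q, hp, hq, hpq, hpn, hqn⟩ : ∃ p q : ℕ, p.Prime ∧ q.Prime ∧ p ≠ q ∧ p ∣ n ∧ q ∣ n := by
      obtain ⟨p, hp, hpn⟩ := Nat.exists_prime_and_dvd hn1
      by_contra hcon
      push Not at hcon
      apply hpp
      rw [isPrimePow_nat_iff]
      have h1 : ∀ q ∈ n.primeFactorsList, q = p := by
        intro q hq
        by_contra hne
        exact hcon p q hp (Nat.prime_of_mem_primeFactorsList hq) (Ne.symm hne) hpn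
          (Nat.dvd_of_mem_primeFactorsList hq)
      have h2 := Nat.eq_prime_pow_of_unique_prime_dvd hn0 (fun {d} hd hdn =>
        h1 d ((Nat.mem_primeFactorsList hn0).mpr ⟨hd, hdn⟩))
      refine ⟨p, _, hp, ?_, h2.symm⟩
      rw [Nat.pos_iff_ne_zero]
      intro h0
      rw [h0, pow_zero] at h2
      exact hn1 h2
    by_contra hxy
    have hcard := card_tor hqn
    obtain ⟨b, hb, hb0⟩ : ∃ b ∈ tor n q, b ≠ 0 := by
      have h1 : tor n q ≠ ⊥ := by
        intro h
        rw [h] at hcard
        simp at hcard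
        exact hq.one_lt.ne hcard
      obtain ⟨b, hb⟩ := (AddSubgroup.ne_bot_iff_exists_ne_zero).mp h1
      exact ⟨b, b.2, fun h => hb (Subtype.ext h)⟩
    have h1 := torsion_subset hG hprim hp hq hpq hpn hqn (orb_inv x) (zero_notMem_orb hx)
      ⟨x, mem_orb_self x⟩ b hb hb0
    have h2 := torsion_subset hG hprim hp hq hpq hpn hqn (orb_inv y) (zero_notMem_orb hy)
      ⟨y, mem_orb_self y⟩ b hb hb0
    have h3 : orb G x = orb G y := by rw [← orb_eq_of_mem h1, orb_eq_of_mem h2]
    exact hxy (h3 ▸ mem_orb_self y)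

theorem exists_equiv {Γ Ω : Type*} [Group Γ] [MulAction Γ Ω] [Finite Ω] (c : Γ) (a₁ : Ω)
    (hc : ∀ y : Ω, ∃ k : ℤ, c ^ k • a₁ = y) :
    ∃ (n : ℕ) (_ : NeZero n) (e : ZMod n ≃ Ω), ∀ k : ℤ, e (k : ZMod n) = c ^ k • a₁ := by
  have horb : MulAction.orbit (Subgroup.zpowers c) a₁ = Set.univ := by
    rw [Set.eq_univ_iff_forall]
    intro y
    obtain ⟨k, hk⟩ := hc y
    exact ⟨⟨c ^ k, Subgroup.zpow_mem _ (Subgroup.mem_zpowers c) k⟩, hk⟩
  have hfin : Finite (MulAction.orbit (Subgroup.zpowers c) a₁) := inferInstance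
  refine ⟨Function.minimalPeriod (c • ·) a₁, MulAction.minimalPeriod_pos c a₁,
    (MulAction.orbitZPowersEquiv c a₁).symm.trans ((Equiv.setCongr horb).trans (Equiv.Set.univ Ω)), ?_⟩
  intro k
  rw [Equiv.trans_apply, MulAction.orbitZPowersEquiv_symm_apply']
  rfl

/-- **Schur's theorem** for actions: a primitive group with a transitive cyclic subgroup of composite
order is doubly transitive. -/
theorem two_transitive {Γ Ω : Type*} [Group Γ] [MulAction Γ Ω] [Finite Ω] (c : Γ)
    (hc : ∀ x y : Ω, ∃ k : ℤ, c ^ k • x = y) (hn1 : Nat.card Ω ≠ 1) (hn : ¬ (Nat.card Ω).Prime)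
    (hprim : MulAction.IsPreprimitive Γ Ω) : MulAction.IsMultiplyPretransitive Γ Ω 2 := by
  classical
  rw [MulAction.is_two_pretransitive_iff]
  intro a₁ a₂ b₁ b₂ ha hb
  have hne : Nonempty Ω := ⟨a₁⟩
  -- the identification with `ZMod n`
  obtain ⟨n, hnz, e, he⟩ := exists_equiv c a₁ (hc a₁)
  have hcard : Nat.card Ω = n := by
    rw [← Nat.card_congr e, Nat.card_zmod]
  rw [hcard] at hn1 hn
  have he' : ∀ (k : ℤ) (x : ZMod n), e (x + k) = c ^ k • e x := by
    intro k x
    obtain ⟨j, rfl⟩ := ZMod.intCast_surjective x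
    rw [← Int.cast_add, he, he, smul_smul, ← zpow_add, add_comm j k]
  -- the transported group
  let ρ : Γ →* Equiv.Perm (ZMod n) := (e.symm.permCongrHom.toMonoidHom).comp (MulAction.toPermHom Γ Ω)
  have hρ : ∀ (g : Γ) (x : ZMod n), ρ g x = e.symm (g • e x) := fun g x => rfl
  have hTr : HasTr ρ.range := by
    intro a
    obtain ⟨k, rfl⟩ := ZMod.intCast_surjective a
    refine ⟨c ^ k, ?_⟩
    ext x
    rw [hρ, ← he', Equiv.symm_apply_apply, Equiv.coe_addRight]
  have hPrim : Prim ρ.range := by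
    intro H hH
    -- the block
    have hB : MulAction.IsBlock Γ (e '' (H : Set (ZMod n))) := by
      rw [MulAction.isBlock_iff_smul_eq_of_nonempty]
      rintro g ⟨_, ⟨_, ⟨x, hx, rfl⟩, rfl⟩, ⟨y, hy, hyx⟩⟩
      -- `g • e x = e y`
      have hgx : ρ g x = y := by rw [hρ]; simp only at hyx; rw [← hyx, e.symm_apply_apply]
      have key : ∀ z, (ρ g z ∈ H ↔ z ∈ H) := by
        intro z
        have h1 := hH.sub_mem hTr (γ := ρ g) ⟨g, rfl⟩ z x
        rw [hgx] at h1
        constructor
        · intro h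
          have h2 := h1.mp (sub_mem h hy)
          have h3 := add_mem h2 hx
          simpa using h3
        · intro h
          have h2 := h1.mpr (sub_mem h hx)
          have h3 := add_mem h2 hy
          simpa using h3
      ext w
      constructor
      · rintro ⟨_, ⟨z, hz, rfl⟩, rfl⟩
        refine ⟨ρ g z, (key z).mpr hz, ?_⟩
        rw [hρ, e.apply_symm_apply]
      · rintro ⟨z, hz, rfl⟩
        refine ⟨e ((ρ g)⁻¹ z), ⟨(ρ g)⁻¹ z, ?_, rfl⟩, ?_⟩
        · have h4 : ρ g ((ρ g)⁻¹ z) = z := (ρ g).apply_symm_apply z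
          exact (key _).mp (by rw [h4]; exact hz)
        · have h4 : ρ g ((ρ g)⁻¹ z) = z := (ρ g).apply_symm_apply z
          rw [hρ] at h4
          have h5 := congrArg e h4
          rw [e.apply_symm_apply] at h5
          exact h5
    rcases hprim.isTrivialBlock_of_isBlock hB with h | h
    · left
      rw [AddSubgroup.eq_bot_iff_forall]
      intro x hx
      have h1 := h (Set.mem_image_of_mem e hx) (Set.mem_image_of_mem e H.zero_mem)
      exact e.injective h1
    · right
      rw [AddSubgroup.eq_top_iff']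
      intro x
      have h1 : e x ∈ e '' (H : Set (ZMod n)) := by rw [h]; exact Set.mem_univ _
      obtain ⟨y, hy, hyx⟩ := h1
      rwa [← e.injective hyx]
  -- `e 0 = a₁`
  have he0 : e 0 = a₁ := by
    have := he 0
    simpa using this
  -- transport the four points
  have key : ∀ x y : Ω, x ≠ a₁ → y ≠ a₁ → ∃ g : Γ, g • a₁ = a₁ ∧ g • x = y := by
    intro x y hx hy
    have hx0 : e.symm x ≠ 0 := fun h => hx (by rw [← he0, ← h, e.apply_symm_apply])
    have hy0 : e.symm y ≠ 0 := fun h => hy (by rw [← he0, ← h, e.apply_symm_apply])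
    obtain ⟨h, ⟨g, rfl⟩, h0, hxy⟩ := transitive_of_composite hn1 hn hTr hPrim hx0 hy0
    refine ⟨g, ?_, ?_⟩
    · rw [hρ, he0] at h0
      have := congrArg e h0
      rwa [e.apply_symm_apply, he0] at this
    · rw [hρ, e.apply_symm_apply] at hxy
      exact e.symm.injective hxy
  obtain ⟨k, hk⟩ := hc b₁ a₁
  have h1 : c ^ k • b₂ ≠ a₁ := by
    intro h
    apply hb
    have : c ^ k • b₁ = c ^ k • b₂ := by rw [hk, h]
    exact smul_left_cancel _ this
  obtain ⟨g, hg1, hg2⟩ := key a₂ (c ^ k • b₂) (Ne.symm ha) h1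
  refine ⟨(c ^ k)⁻¹ * g, ?_, ?_⟩
  · rw [mul_smul, hg1, ← hk, inv_smul_smul]
  · rw [mul_smul, hg2, inv_smul_smul]

end Cfsg.Agent.H66.SR
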